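import Groth.Agent.H05EGA4.EtH90.Local
import Groth.Agent.H18Et.FreeSheaf

/-!
# Étale sheaves on open subsets: restriction, gluing, units, extension for injective sheaves
-/

set_option autoImplicit false
set_option linter.style.haveILetI false
set_option backward.isDefEq.respectTransparency false
set_option backward.isDefEq.respectTransparency.types false

universe u

open CategoryTheory CategoryTheory.Limits AlgebraicGeometry Opposite

namespace Groth.Agent.H05EGA4.EtH90

open Groth.Agent.H18Et (mem_topology_of_forall_point)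
open Groth.Agent.H18Et.Subterminal (ofOpen)
open Groth.Agent.H18Et.MuConst (sec sec_surjective sec_injective map_sec)
open scoped Groth.Agent.H18Et

variable {X : Scheme.{u}}

/-- Sections over an open. -/
noncomputable abbrev osect (F : EtCoh.Ab X) (U : X.Opens) : Type (u + 1) := EtCoh.sect F (ofOpen U)

/-- An inclusion of opens in the site. -/
noncomputable def opHom {U V : X.Opens} (h : V ≤ U) : ofOpen V ⟶ ofOpen U :=
  MorphismProperty.Over.homMk (X.homOfLE h) (X.homOfLE_ι h) trivial

/-- Restriction to a smaller open. -/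
noncomputable abbrev ores (F : EtCoh.Ab X) {U V : X.Opens} (h : V ≤ U) : osect F U →+ osect F V :=
  res F (opHom h)

theorem ores_ores (F : EtCoh.Ab X) {U V W : X.Opens} (h : V ≤ U) (h' : W ≤ V) (s : osect F U) :
    ores F h' (ores F h s) = ores F (h'.trans h) s :=
  (res_res F _ _ s).trans (res_congr F (Subsingleton.elim _ _) s)

theorem ores_self (F : EtCoh.Ab X) {U : X.Opens} (h : U ≤ U) (s : osect F U) : ores F h s = s := by
  rw [ores, res, show opHom h = 𝟙 _ from Subsingleton.elim _ _, op_id, F.obj.map_id]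
  rfl

theorem ores_app {F G : EtCoh.Ab X} (φ : F ⟶ G) {U V : X.Opens} (h : V ≤ U) (s : osect F U) :
    φ.hom.app (op (ofOpen V)) (ores F h s) = ores G h (φ.hom.app (op (ofOpen U)) s) :=
  res_app φ _ s

theorem isSheafFor_opens (F : EtCoh.Ab X) {J : Type*} (V : J → X.Opens) (W : X.Opens) (hV : ∀ a, V a ≤ W)
    (hcov : ∀ x ∈ W, ∃ a, x ∈ V a) :
    Presieve.IsSheafFor (F.obj ⋙ CategoryTheory.forget AddCommGrpCat.{u + 1})
      (Presieve.ofArrows (fun a => ofOpen (V a)) fun a => opHom (hV a)) := by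
  rw [Presieve.isSheafFor_iff_generate]
  refine ((isSheaf_iff_isSheaf_of_type _ _).1
    ((sheafCompose _ (CategoryTheory.forget AddCommGrpCat.{u + 1})).obj F).property) _ ?_
  refine mem_topology_of_forall_point _ fun x => ?_
  obtain ⟨a, ha⟩ := hcov x.1 x.2
  refine ⟨ofOpen (V a), opHom (hV a), ⟨x.1, ha⟩, ⟨_, 𝟙 _, opHom (hV a), Presieve.ofArrows.mk a,
    Category.id_comp _⟩, W.ι.isOpenEmbedding.injective ?_⟩
  show W.ι.base ((X.homOfLE (hV a)).base _) = _
  rw [← Scheme.Hom.comp_apply, X.homOfLE_ι]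
  rfl

theorem eq_of_locally (F : EtCoh.Ab X) {J : Type*} (V : J → X.Opens) {W : X.Opens} (hV : ∀ a, V a ≤ W)
    (hcov : ∀ x ∈ W, ∃ a, x ∈ V a) (s t : osect F W) (h : ∀ a, ores F (hV a) s = ores F (hV a) t) : s = t :=
  (isSheafFor_opens F V W hV hcov).isSeparatedFor.ext fun _ f hf => by
    obtain ⟨a⟩ := hf
    exact h a

theorem exists_glue (F : EtCoh.Ab X) {J : Type*} (V : J → X.Opens) {W : X.Opens} (hV : ∀ a, V a ≤ W)
    (hcov : ∀ x ∈ W, ∃ a, x ∈ V a) (s : ∀ a, osect F (V a))
    (h : ∀ a b, ores F (inf_le_left : V a ⊓ V b ≤ V a) (s a) = ores F inf_le_right (s b)) :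
    ∃ t : osect F W, ∀ a, ores F (hV a) t = s a := by
  obtain ⟨t, ht, -⟩ := (Presieve.isSheafFor_arrows_iff _ _).1 (isSheafFor_opens F V W hV hcov) s
    fun a b Z α β hαβ => by
      have hr : ∀ z : Z.left, Z.hom z ∈ V a ⊓ V b := fun z => by
        have h₁ := (Groth.Agent.H18Et.Subterminal.nonempty_hom_iff (V a) Z).1 ⟨α⟩ z
        have h₂ := (Groth.Agent.H18Et.Subterminal.nonempty_hom_iff (V b) Z).1 ⟨β⟩ z
        exact ⟨h₁, h₂⟩
      obtain ⟨γ⟩ := (Groth.Agent.H18Et.Subterminal.nonempty_hom_iff (V a ⊓ V b) Z).2 hr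
      show res F α (s a) = res F β (s b)
      rw [res_congr F (Subsingleton.elim α (γ ≫ opHom inf_le_left)),
        res_congr F (Subsingleton.elim β (γ ≫ opHom inf_le_right)), ← res_res, ← res_res]
      exact congrArg _ (h a b)
  exact ⟨t, ht⟩

/-- Sections of an injective sheaf extend from open subsets. -/
theorem ores_surjective (I : EtCoh.Ab X) [Injective I] {U V : X.Opens} (h : V ≤ U) :
    Function.Surjective (ores I h) := by
  intro s
  haveI : Mono (opHom h) := ⟨fun {Z} a b _ => Subsingleton.elim a b⟩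
  haveI := H18Et.FreeSheaf.mono_map (opHom h)
  let φ := (H18Et.FreeSheaf.homEquiv (ofOpen V) I).symm s
  refine ⟨H18Et.FreeSheaf.homEquiv (ofOpen U) I (Injective.factorThru φ ((H18Et.FreeSheaf.free X).map (opHom h))), ?_⟩
  show I.obj.map (opHom h).op _ = s
  rw [← H18Et.FreeSheaf.homEquiv_map, Injective.comp_factorThru, Equiv.apply_symm_apply]

/-- A unit on an open as a section of `G_m`. -/
noncomputable def gu {U : X.Opens} (v : Γ(X, U)ˣ) : osect (EtCoh.Gm X) U :=
  sec (U := ofOpen U) (Units.map U.topIso.inv.hom.toMonoidHom v)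

theorem gu_mul {U : X.Opens} (v w : Γ(X, U)ˣ) : gu (v * w) = gu v + gu w := by
  rw [gu, gu, gu, map_mul]
  exact sec_mul _ _

theorem gu_injective {U : X.Opens} : Function.Injective (gu (X := X) (U := U)) := fun v w h => by
  have h' := congrArg Units.val (sec_injective h)
  exact Units.ext ((ConcreteCategory.bijective_of_isIso U.topIso.inv).1 h')

theorem gu_surjective {U : X.Opens} (s : osect (EtCoh.Gm X) U) : ∃ v, gu v = s := by
  obtain ⟨w, rfl⟩ := sec_surjective s
  refine ⟨Units.map U.topIso.hom.hom.toMonoidHom w, congrArg sec (Units.ext ?_)⟩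
  show U.topIso.inv (U.topIso.hom w.1) = w.1
  rw [← CommRingCat.comp_apply, Iso.hom_inv_id]
  rfl

/-- Restriction of units. -/
noncomputable abbrev ru {U V : X.Opens} (h : V ≤ U) : Γ(X, U)ˣ →* Γ(X, V)ˣ :=
  Units.map (X.presheaf.map (homOfLE h).op).hom.toMonoidHom

theorem ores_gu {U V : X.Opens} (h : V ≤ U) (v : Γ(X, U)ˣ) :
    ores (EtCoh.Gm X) h (gu v) = gu (ru h v) := by
  refine (map_sec (opHom h) _).trans (congrArg sec (Units.ext ?_))
  show (X.homOfLE h).appTop (U.topIso.inv (v : Γ(X, U))) =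
    V.topIso.inv (X.presheaf.map (homOfLE h).op (v : Γ(X, U)))
  rw [Scheme.homOfLE_appTop, Scheme.Opens.topIso_inv, Scheme.Opens.topIso_inv, ← CommRingCat.comp_apply,
    ← CommRingCat.comp_apply, ← X.presheaf.map_comp, ← X.presheaf.map_comp]
  rfl

end Groth.Agent.H05EGA4.EtH90
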