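import Groth.Agent.H05EGA4.EtH90.Local
import Groth.Agent.H18Et.Stalk
import Groth.Prelude.Def_EtCore

/-!
# First étale cohomology of `G_m` and sections of the quotient of an injective hull

For a sequence `0 → G_m → I → Q → 0` with `I` injective, every class of `H¹(X, G_m)` is the image
of a global section of `Q`; such a class dies on an open as soon as the section lifts there.
-/

set_option autoImplicit false
set_option linter.style.haveILetI false
set_option backward.isDefEq.respectTransparency false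
set_option backward.isDefEq.respectTransparency.types false

universe u

open CategoryTheory CategoryTheory.Limits AlgebraicGeometry Opposite Abelian

namespace Groth.Agent.H05EGA4.EtH90

open Groth.Agent.H18Et.Subterminal (ofOpen)
open scoped Groth.Agent.H18Et

variable {X : Scheme.{u}}

/-- An injective resolution step of `G_m`. -/
theorem exists_seq (X : Scheme.{u}) :
    ∃ (I Q : EtCoh.Ab X) (i : EtCoh.Gm X ⟶ I) (q : I ⟶ Q) (w : i ≫ q = 0),
      Injective I ∧ (ShortComplex.mk i q w).ShortExact :=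
  ⟨Injective.under (EtCoh.Gm X), cokernel (Injective.ι (EtCoh.Gm X)), Injective.ι _, cokernel.π _,
    cokernel.condition _, inferInstance,
    { exact := ShortComplex.exact_cokernel _, mono_f := inferInstance, epi_g := inferInstanceAs (Epi (cokernel.π _)) }⟩

variable {A I Q : EtCoh.Ab X} {i : A ⟶ I} {q : I ⟶ Q} {w : i ≫ q = 0} (hS : (ShortComplex.mk i q w).ShortExact)

/-- The connecting homomorphism on global sections. -/
noncomputable def delta : EtCoh.sect Q (EtCoh.top X) →+ EtCoh.H X A 1 :=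
  AddMonoidHom.mk' (fun s => ((Sheaf.H.equiv₀ Q (EtCore.topIsTerminal X)).symm s).comp hS.extClass (zero_add 1))
    fun a b => by
      rw [map_add]
      exact Ext.add_comp _ _ _ _

theorem delta_surjective [Injective I] : Function.Surjective (delta hS) := by
  intro c
  obtain ⟨y, hy⟩ := Ext.covariant_sequence_exact₁ _ hS c (Ext.eq_zero_of_injective _) (zero_add 1)
  refine ⟨Sheaf.H.equiv₀ Q (EtCore.topIsTerminal X) y, ?_⟩
  show ((Sheaf.H.equiv₀ Q (EtCore.topIsTerminal X)).symm _).comp _ (zero_add 1) = c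
  rw [AddEquiv.symm_apply_apply]
  exact hy

theorem delta_eq_zero_iff (s : EtCoh.sect Q (EtCoh.top X)) :
    delta hS s = 0 ↔ ∃ r, q.hom.app (op (EtCoh.top X)) r = s := by
  constructor
  · intro h
    obtain ⟨y, hy⟩ := Ext.covariant_sequence_exact₃ _ hS _ (zero_add 1) h
    refine ⟨Sheaf.H.equiv₀ I (EtCore.topIsTerminal X) y, ?_⟩
    have h2 : Sheaf.H.map q 0 y = (Sheaf.H.equiv₀ Q (EtCore.topIsTerminal X)).symm s := by
      rw [Sheaf.H.map_apply]; exact hy
    rw [Sheaf.H.equiv₀_naturality, h2, AddEquiv.apply_symm_apply]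
  · rintro ⟨r, rfl⟩
    show ((Sheaf.H.equiv₀ Q (EtCore.topIsTerminal X)).symm _).comp _ (zero_add 1) = 0
    rw [show (Sheaf.H.equiv₀ Q (EtCore.topIsTerminal X)).symm (q.hom.app (op (EtCoh.top X)) r) =
      Sheaf.H.map q 0 ((Sheaf.H.equiv₀ I (EtCore.topIsTerminal X)).symm r) from
      (Sheaf.H.equiv₀ Q (EtCore.topIsTerminal X)).injective (by
        rw [AddEquiv.apply_symm_apply, ← Sheaf.H.equiv₀_naturality, AddEquiv.apply_symm_apply])]
    rw [Sheaf.H.map_apply]
    refine (Ext.comp_assoc _ _ _ (add_zero 0) (zero_add 1) rfl).trans ?_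
    exact (congrArg (fun z => Ext.comp _ z (zero_add 1)) hS.comp_extClass).trans (Ext.comp_zero _ _ _ _ _)

/-- A connecting class dies after pullback as soon as the pulled back class in degree zero lifts. -/
theorem Hpull_delta_eq_zero {V : Scheme.{u}} (j : V ⟶ X) [PreservesFiniteLimits (EtCoh.pull j)]
    (s : EtCoh.sect Q (EtCoh.top X)) (z : EtCoh.H V ((EtCoh.pull j).obj I) 0)
    (hz : z.comp (Ext.mk₀ ((EtCoh.pull j).map q)) (add_zero 0) =
      EtCore.Hpull j Q 0 ((Sheaf.H.equiv₀ Q (EtCore.topIsTerminal X)).symm s)) :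
    EtCore.Hpull j A 1 (delta hS s) = 0 := by
  generalize hx : (Sheaf.H.equiv₀ Q (EtCore.topIsTerminal X)).symm s = x₀ at hz
  have hd : delta hS s = x₀.comp hS.extClass (zero_add 1) := by rw [← hx]; rfl
  have hF := hS.map_of_exact (EtCoh.pull j)
  rw [hd]
  show (Ext.mk₀ (EtCore.pullConst j ℤ).inv).comp ((x₀.comp hS.extClass (zero_add 1)).mapExactFunctor (EtCoh.pull j))
    (zero_add 1) = 0
  rw [Ext.mapExactFunctor_comp, Ext.mapExactFunctor_extClass]
  refine (Ext.comp_assoc (α := Ext.mk₀ (EtCore.pullConst j ℤ).inv) (β := x₀.mapExactFunctor (EtCoh.pull j))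
    (γ := hF.extClass) (zero_add 0) (zero_add 1) (by omega)).symm.trans ?_
  refine (congrArg (fun y => Ext.comp y hF.extClass (zero_add 1)) hz.symm).trans ?_
  refine (Ext.comp_assoc _ _ _ (add_zero 0) (zero_add 1) rfl).trans ?_
  exact (congrArg (fun y => Ext.comp z y (zero_add 1)) hF.comp_extClass).trans (Ext.comp_zero _ _ _ _ _)

/-- Every class of `H¹(X, G_m)` vanishes Zariski locally. -/
theorem exists_open_Hpull_eq_zero (c : EtCoh.H X (EtCoh.Gm X) 1) (x : X) :
    ∃ U : X.Opens, x ∈ U ∧ ∀ [PreservesFiniteLimits (EtCoh.pull U.ι)],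
      EtCore.Hpull U.ι (EtCoh.Gm X) 1 c = 0 := by
  obtain ⟨I, Q, i, q, w, _, hS⟩ := exists_seq X
  obtain ⟨s, rfl⟩ := delta_surjective hS c
  obtain ⟨D, hxD, r, hr⟩ := exists_lift i q w hS s x
  refine ⟨D, hxD, ?_⟩
  intro
  let a : H18Et.FreeSheaf.obj D.ι ⟶ ofOpen D :=
    MorphismProperty.Over.homMk (𝟙 _) (show 𝟙 _ ≫ D.ι = (EtCoh.top D.toScheme).hom ≫ D.ι from rfl) trivial
  let ρ : H18Et.FreeSheaf.obj D.ι ⟶ EtCoh.top X := (EtCore.topIsTerminal X).from _
  refine Hpull_delta_eq_zero hS D.ι s ((H18Et.FreeSheaf.sec D.ι I).symm (res I a r)) ?_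
  refine (H18Et.FreeSheaf.sec D.ι Q).injective ?_
  rw [H18Et.FreeSheaf.sec_comp, H18Et.FreeSheaf.sec_Hpull D.ι Q ρ, AddEquiv.apply_symm_apply,
    AddEquiv.apply_symm_apply, res_app, hr, res_res]
  exact res_congr _ ((EtCore.topIsTerminal X).hom_ext _ _) s

end Groth.Agent.H05EGA4.EtH90
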