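import Groth.Agent.H05EGA4.EtH90.Opens
import Groth.Agent.H05EGA4.EtH90.Class
import Groth.Prelude.Def_PicGrp
import Groth.Agent.H7Flat.LineCocycle
import Groth.Agent.H11Ample.Basic
import Groth.Agent.H11Tilde.ProjUP
import Groth.Agent.H11Tilde.ProjUPUnique
import Groth.Agent.H11Ample.Ample
import Groth.Agent.H10Coh.FlasqueLocal

/-!
# The Picard group and first étale cohomology of `G_m`

For `0 → G_m → I → Q → 0` with `I` injective, a global section of `Q` lifts Zariski locally; the
transition units of the local lifts give an invertible module.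
-/

set_option autoImplicit false
set_option linter.style.haveILetI false
set_option backward.isDefEq.respectTransparency false
set_option backward.isDefEq.respectTransparency.types false

noncomputable section

universe u

open CategoryTheory CategoryTheory.Limits AlgebraicGeometry Opposite Abelian TopologicalSpace

namespace Groth.Agent.H05EGA4.EtH90

open Groth.Agent.H7Flat.LineCocycle Groth.Agent.H11Tilde
open Groth.Agent.H18Et.Subterminal (ofOpen)
open scoped Groth.Agent.H18Et

variable {X : Scheme.{u}} {I Q : EtCoh.Ab X} (i : EtCoh.Gm X ⟶ I) (q : I ⟶ Q)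

/-- The embedding of units in the injective sheaf. -/
def iu {U : X.Opens} (v : Γ(X, U)ˣ) : osect I U := i.hom.app (op (ofOpen U)) (gu v)

/-- The projection on sections over an open. -/
abbrev gq (U : X.Opens) : osect I U →+ osect Q U := (q.hom.app (op (ofOpen U))).hom

/-- A global section, restricted to an open. -/
abbrev gs (U : X.Opens) : EtCoh.sect Q (EtCoh.top X) →+ osect Q U :=
  res Q ((EtCore.topIsTerminal X).from (ofOpen U))

theorem iu_mul {U : X.Opens} (v w : Γ(X, U)ˣ) : iu i (v * w) = iu i v + iu i w := by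
  rw [iu, gu_mul, map_add]
  rfl

theorem iu_one {U : X.Opens} : iu i (1 : Γ(X, U)ˣ) = 0 := by
  have h := iu_mul i (1 : Γ(X, U)ˣ) 1
  rw [mul_one] at h
  exact left_eq_add.1 h

theorem iu_res {U V : X.Opens} (h : V ≤ U) (v : Γ(X, U)ˣ) : ores I h (iu i v) = iu i (ru h v) := by
  rw [iu, ← ores_app, ores_gu]
  rfl

theorem gq_res {U V : X.Opens} (h : V ≤ U) (r : osect I U) : gq q V (ores I h r) = ores Q h (gq q U r) :=
  ores_app q h r

theorem ores_gs {U V : X.Opens} (h : V ≤ U) (t : EtCoh.sect Q (EtCoh.top X)) :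
    ores Q h (gs U t) = gs (Q := Q) V t :=
  (res_res Q _ _ t).trans (res_congr Q ((EtCore.topIsTerminal X).hom_ext _ _) t)

variable {i q} {w : i ≫ q = 0} (hS : (ShortComplex.mk i q w).ShortExact)

include hS in
theorem iu_injective {U : X.Opens} : Function.Injective (iu i (U := U)) := fun _ _ h =>
  gu_injective ((sections_exact i q w hS _).1 h)

include hS in
theorem gq_iu {U : X.Opens} (v : Γ(X, U)ˣ) : gq q U (iu i v) = 0 :=
  ConcreteCategory.congr_hom (congrArg (fun k => k.hom.app (op (ofOpen U))) w) _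

include hS in
theorem exists_iu {U : X.Opens} (r : osect I U) (hr : gq q U r = 0) : ∃ v, iu i v = r := by
  obtain ⟨v, hv⟩ := (sections_exact i q w hS _).2 r hr
  obtain ⟨v', hv'⟩ := gu_surjective (U := U) (Groth.Agent.H18Et.MuConst.sec (U := ofOpen U) v)
  exact ⟨v', by rw [iu, hv', hv]⟩

include hS in
theorem exists_trans {t : EtCoh.sect Q (EtCoh.top X)} {Va Vb : X.Opens} {ra : osect I Va} {rb : osect I Vb}
    (hra : gq q Va ra = gs Va t) (hrb : gq q Vb rb = gs Vb t) {T : X.Opens} (ha : T ≤ Va) (hb : T ≤ Vb) :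
    ∃ v, iu i v = ores I ha ra - ores I hb rb := by
  refine exists_iu hS _ ?_
  rw [map_sub, gq_res, gq_res, hra, hrb, ores_gs, ores_gs, sub_self]

variable (i q) in
/-- `L` is the invertible module attached to the global section `t`. -/
def Rep (t : EtCoh.sect Q (EtCoh.top X)) (L : X.Modules) : Prop :=
  ∃ (J : Type u) (V : J → X.Opens) (e : ∀ a, Γ(L, V a)) (r : ∀ a, osect I (V a)),
    (∀ x, ∃ a, x ∈ V a) ∧ (∀ a, IsGen L (e a)) ∧ (∀ a, gq q (V a) (r a) = gs (V a) t) ∧
    ∀ a b (T : X.Opens) (ha : T ≤ V a) (hb : T ≤ V b) (s : Γ(X, T)ˣ),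
      iu i s = ores I ha (r a) - ores I hb (r b) →
      L.presheaf.map (homOfLE hb).op (e b) = (s : Γ(X, T)) • L.presheaf.map (homOfLE ha).op (e a)

theorem Rep.of_iso {t : EtCoh.sect Q (EtCoh.top X)} {L L' : X.Modules} (h : Rep i q t L) (φ : L ≅ L') :
    Rep i q t L' := by
  obtain ⟨J, V, e, r, hV, he, hr, hc⟩ := h
  refine ⟨J, V, fun a => φ.hom.app (V a) (e a), r, hV, fun a => IsGen.map_iso φ (he a), hr,
    fun a b T ha hb s hs => ?_⟩
  rw [← H11Tilde.app_map_apply, ← H11Tilde.app_map_apply, hc a b T ha hb s hs, Scheme.Modules.Hom.app_smul]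

include hS in
theorem Rep.unique {t : EtCoh.sect Q (EtCoh.top X)} {L L' : X.Modules} (h : Rep i q t L) (h' : Rep i q t L') :
    Nonempty (L ≅ L') := by
  obtain ⟨J, V, e, r, hV, he, hr, hc⟩ := h
  obtain ⟨J', V', e', r', hV', he', hr', hc'⟩ := h'
  choose w' hw using fun p : J × J' => exists_trans hS (hr' p.2) (hr p.1)
    (inf_le_right : V p.1 ⊓ V' p.2 ≤ V' p.2) inf_le_left
  refine ⟨(H11Ample.exists_iso_of_gen (fun p : J × J' => V p.1 ⊓ V' p.2) (fun x => ?_)
    (fun p => L.presheaf.map (homOfLE inf_le_left).op (e p.1)) (fun p => (he p.1).res inf_le_left)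
    (fun p => (w' p : Γ(X, V p.1 ⊓ V' p.2)) • L'.presheaf.map (homOfLE inf_le_right).op (e' p.2))
    (fun p => ((he' p.2).res inf_le_right).smul (Units.isUnit _)) fun p p' u hu => ?_).choose⟩
  · obtain ⟨a, ha⟩ := hV x
    obtain ⟨c, hc⟩ := hV' x
    exact ⟨(a, c), ha, hc⟩
  · let T := (V p.1 ⊓ V' p.2) ⊓ (V p'.1 ⊓ V' p'.2)
    have pa : T ≤ V p.1 := inf_le_left.trans inf_le_left
    have pc : T ≤ V' p.2 := inf_le_left.trans inf_le_right
    have qa : T ≤ V p'.1 := inf_le_right.trans inf_le_left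
    have qc : T ≤ V' p'.2 := inf_le_right.trans inf_le_right
    obtain ⟨s, hs⟩ := exists_trans hS (hr p'.1) (hr p.1) qa pa
    obtain ⟨v, hv⟩ := exists_trans hS (hr' p'.2) (hr' p.2) qc pc
    rw [H10Coh.mres_mres, H10Coh.mres_mres, hc p'.1 p.1 T qa pa s hs] at hu
    have hu' : (s : Γ(X, T)) = u := ((he p'.1).bijective qa).1 hu
    rw [L'.map_smul, L'.map_smul, H10Coh.mres_mres, H10Coh.mres_mres, hc' p'.2 p.2 T qc pc v hv, smul_smul,
      smul_smul, ← hu']
    show ((ru inf_le_left (w' p) * v : Γ(X, T)ˣ) : Γ(X, T)) • _ =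
      ((s * ru inf_le_right (w' p') : Γ(X, T)ˣ) : Γ(X, T)) • _
    congr 2
    refine iu_injective hS ?_
    rw [iu_mul, iu_mul, ← iu_res, ← iu_res, hw, hw, hs, hv, map_sub, map_sub, ores_ores, ores_ores, ores_ores,
      ores_ores]
    abel

include hS in
theorem exists_rep (t : EtCoh.sect Q (EtCoh.top X)) : ∃ L : X.Modules, PicF.IsInvertible L ∧ Rep i q t L := by
  choose V hxV r hr using fun x : X => exists_lift i q w hS t x
  choose s hs using fun a b : X => exists_trans hS (hr a) (hr b) (inf_le_left : V a ⊓ V b ≤ V a) inf_le_right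
  let D : Data X :=
    { J := X
      V := V
      g := fun a b => (s a b : Γ(X, V a ⊓ V b))
      isUnit := fun a b => Units.isUnit _
      cocycle := fun a b c T ha hb hc => by
        show ((ru (le_inf ha hb) (s a b) * ru (le_inf hb hc) (s b c) : Γ(X, T)ˣ) : Γ(X, T)) =
          ((ru (le_inf ha hc) (s a c) : Γ(X, T)ˣ) : Γ(X, T))
        congr 1
        refine iu_injective hS ?_
        rw [iu_mul, ← iu_res, ← iu_res, ← iu_res, hs, hs, hs, map_sub, map_sub, map_sub, ores_ores, ores_ores,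
          ores_ores, ores_ores, ores_ores, ores_ores]
        abel
      cover := fun x => ⟨x, hxV x⟩ }
  refine ⟨line D, isInvertible_line D, X, V, gen D, r, fun x => ⟨x, hxV x⟩, isGen_gen D, hr,
    fun a b T ha hb v hv => (gen_trans D a b T ha hb).trans ?_⟩
  congr 1
  show ((ru (le_inf ha hb) (s a b) : Γ(X, T)ˣ) : Γ(X, T)) = v
  congr 1
  refine iu_injective hS ?_
  rw [← iu_res, hs, hv, map_sub, ores_ores, ores_ores]

include hS in
theorem Rep.tensor {t t' : EtCoh.sect Q (EtCoh.top X)} {L L' : X.Modules} (h : Rep i q t L) (h' : Rep i q t' L') :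
    Rep i q (t + t') (CohB1.tensorMod L L') := by
  obtain ⟨J, V, e, r, hV, he, hr, hc⟩ := h
  obtain ⟨J', V', e', r', hV', he', hr', hc'⟩ := h'
  refine ⟨J × J', fun p => V p.1 ⊓ V' p.2,
    fun p => H11Ample.tm (L.presheaf.map (homOfLE inf_le_left).op (e p.1))
      (L'.presheaf.map (homOfLE inf_le_right).op (e' p.2)),
    fun p => ores I inf_le_left (r p.1) + ores I inf_le_right (r' p.2), fun x => ?_,
    fun p => H11Ample.isGen_tm ((he p.1).res inf_le_left) ((he' p.2).res inf_le_right), fun p => ?_,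
    fun p p' T hp hq s hs => ?_⟩
  · obtain ⟨a, ha⟩ := hV x
    obtain ⟨c, hc⟩ := hV' x
    exact ⟨(a, c), ha, hc⟩
  · rw [map_add, gq_res, gq_res, hr, hr', ores_gs, ores_gs, map_add]
  · have pa : T ≤ V p.1 := hp.trans inf_le_left
    have pc : T ≤ V' p.2 := hp.trans inf_le_right
    have qa : T ≤ V p'.1 := hq.trans inf_le_left
    have qc : T ≤ V' p'.2 := hq.trans inf_le_right
    obtain ⟨v, hv⟩ := exists_trans hS (hr p.1) (hr p'.1) pa qa
    obtain ⟨v', hv'⟩ := exists_trans hS (hr' p.2) (hr' p'.2) pc qc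
    rw [H11Ample.tm_res, H11Ample.tm_res, H10Coh.mres_mres, H10Coh.mres_mres, H10Coh.mres_mres,
      H10Coh.mres_mres, hc p.1 p'.1 T pa qa v hv, hc' p.2 p'.2 T pc qc v' hv', H11Ample.tm_smul_left,
      H11Ample.tm_smul_right, smul_smul, ← Units.val_mul]
    congr 2
    refine iu_injective hS ?_
    rw [iu_mul, hv, hv', hs, map_add, map_add, ores_ores, ores_ores, ores_ores, ores_ores]
    abel

include hS in
theorem rep_structure_iff (t : EtCoh.sect Q (EtCoh.top X)) :
    Rep i q t (Coh.structureModule X) ↔ ∃ g, q.hom.app (op (EtCoh.top X)) g = t := by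
  let hterm := EtCore.topIsTerminal X
  let τ : EtCoh.top X ⟶ ofOpen (⊤ : X.Opens) :=
    MorphismProperty.Over.homMk X.topIso.inv (by
      show X.topIso.inv ≫ (⊤ : X.Opens).ι = 𝟙 X
      rw [← Scheme.topIso_hom, Iso.inv_hom_id]) trivial
  constructor
  · rintro ⟨J, V, e, r, hV, he, hr, hc⟩
    have hu : ∀ a, IsUnit (show Γ(X, V a) from e a) := fun a => by
      obtain ⟨c, hc⟩ := H11Ample.exists_coeff (he a) (show Γ(Coh.structureModule X, V a) from (1 : Γ(X, V a)))
      exact IsUnit.of_mul_eq_one (c : Γ(X, V a)) (by rw [mul_comm]; exact hc.symm)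
    let v : ∀ a, Γ(X, V a)ˣ := fun a => (hu a).unit
    obtain ⟨g, hg⟩ := exists_glue I V (W := ⊤) (fun a => le_top) (fun x _ => hV x)
      (fun a => r a + iu i (v a)) fun a b => by
        obtain ⟨s, hs⟩ := exists_trans hS (hr a) (hr b) (inf_le_left : V a ⊓ V b ≤ V a) inf_le_right
        have h := hc a b (V a ⊓ V b) inf_le_left inf_le_right s hs
        have h' : ru inf_le_right (v b) = s * ru inf_le_left (v a) := Units.ext h
        rw [map_add, map_add, iu_res, iu_res, h', iu_mul, hs]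
        abel
    refine ⟨res I τ g, ?_⟩
    have h1 : gq q ⊤ g = gs ⊤ t := eq_of_locally Q V (fun a => le_top) (fun x _ => hV x) _ _ fun a => by
      rw [← gq_res, hg, map_add, gq_iu hS, add_zero, hr, ores_gs]
    rw [res_app, show q.hom.app (op (ofOpen (⊤ : X.Opens))) g = gs ⊤ t from h1, gs, res_res,
      res_congr Q (hterm.hom_ext _ (𝟙 _))]
    exact ConcreteCategory.congr_hom (Q.obj.map_id _) t
  · rintro ⟨g, rfl⟩
    refine ⟨PUnit, fun _ => ⊤, fun _ => H11Ample.one ⊤, fun _ => res I (hterm.from _) g, fun x => ⟨⟨⟩, trivial⟩,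
      fun _ => H11Ample.isGen_one ⊤, fun _ => res_app q (hterm.from (ofOpen (⊤ : X.Opens))) g, fun a b T ha hb s hs => ?_⟩
    rw [sub_self] at hs
    rw [iu_injective hS (hs.trans (iu_one i).symm), Units.val_one, one_smul]

/-! ### Every invertible module comes from a section -/

section Cochain

variable {J : Type u} (V : J → X.Opens) (s : ∀ a b, osect I (V a ⊓ V b))
  (hs : ∀ a b c (T : X.Opens) (ha : T ≤ V a) (hb : T ≤ V b) (hc : T ≤ V c),
      ores I (le_inf ha hb) (s a b) + ores I (le_inf hb hc) (s b c) = ores I (le_inf ha hc) (s a c))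

/-- A partial coboundary. -/
def Good (S : Set (Σ a, osect I (V a))) : Prop :=
  ∀ x ∈ S, ∀ y ∈ S, ores I inf_le_left x.2 - ores I inf_le_right y.2 = s x.1 y.1

include hs in
theorem cocycle_self (a : J) : s a a = 0 := by
  have h := hs a a a (V a ⊓ V a) inf_le_left inf_le_left inf_le_left
  rw [ores_self] at h
  exact add_eq_left.1 h

include hs in
theorem Good.exists_glue_overlap {S : Set (Σ a, osect I (V a))} (hS : Good V s S) (c : J) :
    ∃ g : osect I (⨆ x : ↥S, V x.1.1 ⊓ V c), ∀ x : ↥S,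
      ores I (le_iSup (fun x : ↥S => V x.1.1 ⊓ V c) x) g = ores I inf_le_left x.1.2 - s x.1.1 c := by
  refine EtH90.exists_glue I (fun x : ↥S => V x.1.1 ⊓ V c) (W := ⨆ x : ↥S, V x.1.1 ⊓ V c) _
    (fun p hp => Opens.mem_iSup.1 hp) (fun x => ores I inf_le_left x.1.2 - s x.1.1 c) fun x y => ?_
  let T := (V x.1.1 ⊓ V c) ⊓ (V y.1.1 ⊓ V c)
  have hx : T ≤ V x.1.1 := inf_le_left.trans inf_le_left
  have hy : T ≤ V y.1.1 := inf_le_right.trans inf_le_left
  have hc : T ≤ V c := inf_le_left.trans inf_le_right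
  have h := congrArg (ores I (le_inf hx hy)) (hS x.1 x.2 y.1 y.2)
  have h3 := hs x.1.1 y.1.1 c T hx hy hc
  rw [map_sub, ores_ores, ores_ores] at h
  rw [map_sub, map_sub, ores_ores, ores_ores, sub_eq_sub_iff_sub_eq_sub, h]
  exact eq_sub_of_add_eq h3

include hs in
theorem Good.insert {S : Set (Σ a, osect I (V a))} (hS : Good V s S) {c : J} {rc : osect I (V c)}
    (hrc : ∀ x ∈ S, ores I inf_le_left x.2 - ores I inf_le_right rc = s x.1 c) :
    Good V s (insert (⟨c, rc⟩ : Σ a, osect I (V a)) S) := by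
  intro x hx y hy
  rcases Set.mem_insert_iff.1 hx with rfl | hx <;> rcases Set.mem_insert_iff.1 hy with rfl | hy
  · rw [cocycle_self V s hs]
    exact sub_self _
  · have hsw := hs c y.1 c (V c ⊓ V y.1) inf_le_left inf_le_right inf_le_left
    have h0 : ores I (le_inf inf_le_left inf_le_left : V c ⊓ V y.1 ≤ V c ⊓ V c) (s c c) = 0 := by
      rw [cocycle_self V s hs, map_zero]
    rw [ores_self, h0] at hsw
    have h := congrArg (ores I (le_inf inf_le_right inf_le_left : V c ⊓ V y.1 ≤ V y.1 ⊓ V c)) (hrc y hy)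
    rw [map_sub, ores_ores, ores_ores] at h
    show ores I inf_le_left rc - ores I inf_le_right y.2 = s c y.1
    rw [eq_neg_of_add_eq_zero_left hsw, ← h]
    abel
  · exact hrc x hx
  · exact hS x hx y hy

include hs in
theorem Good.exists_extend [Injective I] {S : Set (Σ a, osect I (V a))} (hS : Good V s S) (c : J) :
    ∃ rc : osect I (V c), Good V s (Insert.insert (⟨c, rc⟩ : Σ a, osect I (V a)) S) := by
  obtain ⟨g, hg⟩ := Good.exists_glue_overlap V s hs hS c
  obtain ⟨rc, hrc⟩ := ores_surjective I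
    (iSup_le fun x : ↥S => inf_le_right : (⨆ x : ↥S, V x.1.1 ⊓ V c) ≤ V c) g
  refine ⟨rc, Good.insert V s hs hS fun x hx => ?_⟩
  have h := hg ⟨x, hx⟩
  rw [← hrc, ores_ores] at h
  rw [show ores I (inf_le_right : V x.1 ⊓ V c ≤ V c) rc = _ from h]
  abel

include hs in
/-- A cocycle with values in an injective sheaf is a coboundary. -/
theorem exists_cochain [Injective I] :
    ∃ r : ∀ a, osect I (V a), ∀ a b, ores I inf_le_left (r a) - ores I inf_le_right (r b) = s a b := by
  obtain ⟨S, hS⟩ := zorn_subset {S : Set (Σ a, osect I (V a)) | Good V s S} (fun c hc hchain => by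
    refine ⟨⋃₀ c, ?_, fun S hS => Set.subset_sUnion_of_mem hS⟩
    show Good V s (⋃₀ c)
    intro x hx y hy
    obtain ⟨S₁, h₁, hx⟩ := hx
    obtain ⟨S₂, h₂, hy⟩ := hy
    rcases hchain.total h₁ h₂ with h | h
    · exact (show Good V s S₂ from hc h₂) x (h hx) y hy
    · exact (show Good V s S₁ from hc h₁) x hx y (h hy))
  have hmax : Good V s S := hS.prop
  have hall : ∀ a, ∃ r, (⟨a, r⟩ : Σ a, osect I (V a)) ∈ S := fun c => by
    obtain ⟨rc, hrc⟩ := Good.exists_extend V s hs hmax c
    exact ⟨rc, hS.mem_of_prop_insert hrc⟩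
  choose r hr using hall
  exact ⟨r, fun a b => hmax ⟨a, r a⟩ (hr a) ⟨b, r b⟩ (hr b)⟩

end Cochain

include hS in
theorem exists_rep_of_invertible [Injective I] {L : X.Modules} (hL : PicF.IsInvertible L) :
    ∃ t, Rep i q t L := by
  choose V e hxV he using H11Ample.exists_gen hL
  have hu : ∀ a b : X, ∃ s : Γ(X, V a ⊓ V b)ˣ,
      L.presheaf.map (homOfLE inf_le_right).op (e b) =
        (s : Γ(X, V a ⊓ V b)) • L.presheaf.map (homOfLE inf_le_left).op (e a) := by
    intro a b
    obtain ⟨c, hc⟩ := H11Ample.exists_coeff ((he a).res (inf_le_left : V a ⊓ V b ≤ V a))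
      (L.presheaf.map (homOfLE inf_le_right).op (e b))
    obtain ⟨c', hc'⟩ := H11Ample.exists_coeff ((he b).res (inf_le_right : V a ⊓ V b ≤ V b))
      (L.presheaf.map (homOfLE inf_le_left).op (e a))
    have h1 : c * c' = 1 := by
      refine ((he b).bijective (inf_le_right : V a ⊓ V b ≤ V b)).1 ?_
      show (c * c') • _ = (1 : Γ(X, V a ⊓ V b)) • _
      rw [one_smul, mul_smul, ← hc', ← hc]
    refine ⟨(IsUnit.of_mul_eq_one _ h1).unit, ?_⟩
    rw [IsUnit.unit_spec]
    exact hc
  choose s hs using hu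
  have key : ∀ a b (T : X.Opens) (ha : T ≤ V a) (hb : T ≤ V b),
      L.presheaf.map (homOfLE hb).op (e b) =
        (ru (le_inf ha hb) (s a b) : Γ(X, T)) • L.presheaf.map (homOfLE ha).op (e a) := by
    intro a b T ha hb
    have h := congrArg (L.presheaf.map (homOfLE (le_inf ha hb)).op) (hs a b)
    rw [L.map_smul, H10Coh.mres_mres, H10Coh.mres_mres] at h
    exact h
  obtain ⟨r, hr⟩ := exists_cochain V (fun a b => iu i (s a b)) fun a b c T ha hb hc => by
    rw [iu_res, iu_res, iu_res, ← iu_mul]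
    congr 1
    refine Units.ext (((he a).bijective ha).1 ?_)
    show ((ru (le_inf ha hb) (s a b)).val * (ru (le_inf hb hc) (s b c)).val) • L.presheaf.map (homOfLE ha).op (e a) =
      (ru (le_inf ha hc) (s a c)).val • L.presheaf.map (homOfLE ha).op (e a)
    rw [mul_comm, mul_smul, ← key a b T ha hb, ← key b c T hb hc, ← key a c T ha hc]
  obtain ⟨t, ht⟩ := exists_glue Q V (W := ⊤) (fun a => le_top) (fun x _ => ⟨x, hxV x⟩) (fun a => gq q (V a) (r a))
    fun a b => by rw [← gq_res, ← gq_res, ← sub_eq_zero, ← map_sub, hr, gq_iu hS]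
  let τ : EtCoh.top X ⟶ ofOpen (⊤ : X.Opens) :=
    MorphismProperty.Over.homMk X.topIso.inv (by
      show X.topIso.inv ≫ (⊤ : X.Opens).ι = 𝟙 X
      rw [← Scheme.topIso_hom, Iso.inv_hom_id]) trivial
  refine ⟨res Q τ t, X, V, e, r, fun x => ⟨x, hxV x⟩, he, fun a => ?_, fun a b T ha hb v hv => ?_⟩
  · rw [gs, res_res, ← ht a]
    exact res_congr Q (Subsingleton.elim _ _) t
  · have hv' : v = ru (le_inf ha hb) (s a b) := by
      refine iu_injective hS ?_
      rw [hv, ← iu_res, ← hr a b, map_sub, ores_ores, ores_ores]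
    rw [hv']
    exact key a b T ha hb

/-! ### The comparison -/

section

variable [PicGrp.Law X]

/-- The class of the module attached to a global section of the quotient. -/
def toPic : EtCoh.sect Q (EtCoh.top X) →+ Additive (PicLoc.PicSet X) :=
  AddMonoidHom.mk' (fun t => Additive.ofMul (PicGrp.cls _ (exists_rep hS t).choose_spec.1)) fun a b => by
    refine congrArg Additive.ofMul (Subtype.ext (Eq.trans ?_
      (PicGrp.cls_mul_cls_val (exists_rep hS a).choose_spec.1 (exists_rep hS b).choose_spec.1).symm))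
    exact (PicGrp.cl_eq_cl_iff _ _).2 (Rep.unique hS (exists_rep hS (a + b)).choose_spec.2
      (Rep.tensor hS (exists_rep hS a).choose_spec.2 (exists_rep hS b).choose_spec.2))

theorem toPic_surjective [Injective I] : Function.Surjective (toPic hS) := by
  intro c
  obtain ⟨c, rfl⟩ : ∃ d, Additive.ofMul d = c := ⟨Additive.toMul c, rfl⟩
  obtain ⟨L, hLc, hL⟩ := c.2
  obtain ⟨t, ht⟩ := exists_rep_of_invertible hS hL
  exact ⟨t, congrArg Additive.ofMul (Subtype.ext (Eq.trans
    ((PicGrp.cl_eq_cl_iff _ _).2 (Rep.unique hS (exists_rep hS t).choose_spec.2 ht)) hLc))⟩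

theorem toPic_eq_zero_iff (t : EtCoh.sect Q (EtCoh.top X)) :
    toPic hS t = 0 ↔ ∃ g, q.hom.app (op (EtCoh.top X)) g = t := by
  show PicGrp.cls _ (exists_rep hS t).choose_spec.1 = 1 ↔ _
  rw [PicGrp.cls_eq_one_iff, ← rep_structure_iff hS]
  exact ⟨fun ⟨φ⟩ => (exists_rep hS t).choose_spec.2.of_iso φ,
    fun h => Rep.unique hS (exists_rep hS t).choose_spec.2 h⟩

end

/-- `Pic X ≅ H¹(X, G_m)` on the étale site. -/
theorem nonempty_addEquiv (X : Scheme.{u}) [PicGrp.Law X] :
    Nonempty (Additive (PicLoc.PicSet X) ≃+ EtCoh.H X (EtCoh.Gm X) 1) := by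
  obtain ⟨I, Q, i, q, w, _, hS⟩ := exists_seq X
  have h : (toPic hS).ker = (delta hS).ker := by
    ext t
    rw [AddMonoidHom.mem_ker, AddMonoidHom.mem_ker, toPic_eq_zero_iff, delta_eq_zero_iff]
  exact ⟨(QuotientAddGroup.quotientKerEquivOfSurjective _ (toPic_surjective hS)).symm.trans
    ((QuotientAddGroup.quotientAddEquivOfEq h).trans
      (QuotientAddGroup.quotientKerEquivOfSurjective _ (delta_surjective hS)))⟩

/-- `H¹(X, G_m) = 0` iff every invertible module is trivial. -/
theorem subsingleton_iff (X : Scheme.{u}) :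
    Subsingleton (EtCoh.H X (EtCoh.Gm X) 1) ↔
      ∀ L : X.Modules, PicF.IsInvertible L → Nonempty (L ≅ Coh.structureModule X) := by
  obtain ⟨I, Q, i, q, w, _, hS⟩ := exists_seq X
  constructor
  · intro h L hL
    obtain ⟨t, ht⟩ := exists_rep_of_invertible hS hL
    exact Rep.unique hS ht ((rep_structure_iff hS t).2 ((delta_eq_zero_iff hS t).1 (Subsingleton.elim _ _)))
  · intro h
    refine subsingleton_of_forall_eq 0 fun c => ?_
    obtain ⟨t, rfl⟩ := delta_surjective hS c
    obtain ⟨L, hL, hr⟩ := exists_rep hS t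
    obtain ⟨φ⟩ := h L hL
    exact (delta_eq_zero_iff hS t).2 ((rep_structure_iff hS t).1 (hr.of_iso φ))

end Groth.Agent.H05EGA4.EtH90
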