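import Groth.Agent.H3CAlg.TameKummer
import Groth.Agent.H28Alg.RegularUFD
import Mathlib.RingTheory.UniqueFactorizationDomain.Kaplansky

/-!
# The ring of a regular strictly henselian local ring with a parameter inverted
-/

set_option autoImplicit false

universe u

namespace Groth.Agent.H05EGA4.EtH90

open IsLocalRing

variable {A : Type u} [CommRing A] [IsDomain A] (L : Type u) [CommRing L] [IsDomain L] [Algebra A L]

/-- Inverting an element of a factorial domain gives a factorial domain. -/
theorem ufd_away [UniqueFactorizationMonoid A] (x : A) (hx : x ≠ 0) [IsLocalization.Away x L] :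
    UniqueFactorizationMonoid L := by
  have hM : Submonoid.powers x ≤ nonZeroDivisors A := powers_le_nonZeroDivisors_of_noZeroDivisors hx
  refine UniqueFactorizationMonoid.iff_exists_prime_mem_of_isPrime.2 fun P hP0 hP => ?_
  have hd : Disjoint (Submonoid.powers x : Set A) (P.comap (algebraMap A L) : Set A) :=
    ((IsLocalization.isPrime_iff_isPrime_disjoint (Submonoid.powers x) L P).1 hP).2
  have hne : P.comap (algebraMap A L) ≠ ⊥ := fun h => hP0
    ((IsLocalization.map_comap (Submonoid.powers x) L P).symm.trans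
      ((congrArg (Ideal.map (algebraMap A L)) h).trans Ideal.map_bot))
  obtain ⟨π, hπP, hπ⟩ := UniqueFactorizationMonoid.iff_exists_prime_mem_of_isPrime.1 inferInstance _ hne
    (hP.comap _)
  refine ⟨algebraMap A L π, hπP, ?_⟩
  haveI := (Ideal.span_singleton_prime hπ.ne_zero).2 hπ
  have hdπ : Disjoint (Submonoid.powers x : Set A) (Ideal.span {π} : Set A) :=
    hd.mono_right ((Ideal.span_singleton_le_iff_mem _).2 hπP)
  have hp := IsLocalization.isPrime_of_isPrime_disjoint (Submonoid.powers x) L (Ideal.span {π}) ‹_› hdπ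
  rw [Ideal.map_span, Set.image_singleton] at hp
  exact (Ideal.span_singleton_prime
    (fun h => hπ.ne_zero (IsLocalization.injective L hM (h.trans (map_zero _).symm)))).1 hp

/-- A unit after inverting a prime is a unit times a power of the prime. -/
theorem exists_unit_zpow [UniqueFactorizationMonoid A] (x : A) (hx : Prime x) [IsLocalization.Away x L]
    (xu : Lˣ) (hxu : (xu : L) = algebraMap A L x) (v : Lˣ) :
    ∃ (a : Aˣ) (m : ℤ), v = Units.map (algebraMap A L).toMonoidHom a * xu ^ m := by
  have hM : Submonoid.powers x ≤ nonZeroDivisors A :=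
    powers_le_nonZeroDivisors_of_noZeroDivisors hx.ne_zero
  obtain ⟨⟨a, ⟨_, k, rfl⟩⟩, hak⟩ := IsLocalization.surj (Submonoid.powers x) (v : L)
  obtain ⟨⟨b, ⟨_, l, rfl⟩⟩, hbl⟩ := IsLocalization.surj (Submonoid.powers x) ((v⁻¹ : Lˣ) : L)
  have hab : a * b = x ^ (k + l) := IsLocalization.injective L hM (by
    rw [map_mul, ← hak, ← hbl, pow_add, map_mul]
    linear_combination (algebraMap A L (x ^ k) * algebraMap A L (x ^ l)) * v.mul_inv)
  obtain ⟨i, hi, hai⟩ := (dvd_prime_pow hx (k + l)).1 ⟨b, hab.symm⟩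
  obtain ⟨ε, hε⟩ := hai.symm
  refine ⟨ε, (i : ℤ) - k, ?_⟩
  have h : v * xu ^ k = Units.map (algebraMap A L).toMonoidHom ε * xu ^ i := Units.ext (by
    simp only [Units.val_mul, Units.val_pow_eq_pow_val, hxu, ← map_pow]
    refine (hak.trans ?_)
    show algebraMap A L a = algebraMap A L (ε : A) * algebraMap A L (x ^ i)
    rw [← map_mul, mul_comm, hε])
  rw [zpow_sub, zpow_natCast, zpow_natCast, ← mul_assoc, eq_mul_inv_iff_mul_eq, h]

/-- Units of a strictly henselian local ring have all roots of invertible order. -/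
theorem exists_root_unit {R : Type u} [CommRing R] [HenselianLocalRing R] [IsSepClosed (ResidueField R)]
    {n : ℕ} (hn : IsUnit (n : R)) (u : Rˣ) : ∃ w : Rˣ, w ^ n = u := by
  rcases Nat.eq_zero_or_pos n with rfl | hpos
  · rw [Nat.cast_zero] at hn
    haveI := subsingleton_of_zero_eq_one (isUnit_zero_iff.mp hn)
    exact ⟨1, Subsingleton.elim _ _⟩
  haveI : NeZero (n : ResidueField R) :=
    ⟨by rw [← map_natCast (residue R)]; exact (residue_ne_zero_iff_isUnit _).mpr hn⟩
  obtain ⟨z, hz⟩ := IsSepClosed.exists_pow_nat_eq (residue R (u : R)) n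
  obtain ⟨w₀, rfl⟩ := residue_surjective z
  have hw₀ : IsUnit w₀ := (residue_ne_zero_iff_isUnit _).mp fun h0 => by
    rw [h0, zero_pow hpos.ne'] at hz
    exact (residue_ne_zero_iff_isUnit _).mpr u.isUnit hz.symm
  obtain ⟨w, hw, -⟩ := H3CAlg.TameKummer.exists_root_of_residue hn hw₀ (u := (u : R))
    ((residue_eq_zero_iff _).mp (by rw [map_sub, map_pow, hz, sub_self]))
  have hu : IsUnit w := (isUnit_pow_iff hpos.ne').mp (hw ▸ u.isUnit)
  exact ⟨hu.unit, Units.ext (by simpa using hw)⟩

/-- A power of an inverted prime is an `n`-th power only for exponents divisible by `n`. -/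
theorem dvd_of_zpow_eq_pow [UniqueFactorizationMonoid A] (x : A) (hx : Prime x) [IsLocalization.Away x L]
    (xu : Lˣ) (hxu : (xu : L) = algebraMap A L x) {n : ℕ} {m : ℤ} (v : Lˣ) (h : v ^ n = xu ^ m) :
    (n : ℤ) ∣ m := by
  obtain ⟨a, j, rfl⟩ := exists_unit_zpow L x hx xu hxu v
  have hM : Submonoid.powers x ≤ nonZeroDivisors A :=
    powers_le_nonZeroDivisors_of_noZeroDivisors hx.ne_zero
  have key : ∀ (a : Aˣ) (d : ℤ), Units.map (algebraMap A L).toMonoidHom a = xu ^ d → d = 0 := by
    intro a d had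
    obtain ⟨k, rfl | rfl⟩ := Int.eq_nat_or_neg d
    · rw [zpow_natCast] at had
      have h1 := congrArg Units.val had
      simp only [Units.val_pow_eq_pow_val, hxu, ← map_pow] at h1
      have hA : (a : A) = x ^ k := IsLocalization.injective L hM h1
      rcases k with _ | k
      · rfl
      · exact absurd (hA ▸ a.isUnit : IsUnit (x ^ (k + 1)))
          (fun h => hx.not_unit ((isUnit_pow_iff k.succ_ne_zero).1 h))
    · rw [zpow_neg, zpow_natCast] at had
      have h1 : Units.map (algebraMap A L).toMonoidHom a⁻¹ = xu ^ k := by rw [map_inv, had, inv_inv]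
      have h2 := congrArg Units.val h1
      simp only [Units.val_pow_eq_pow_val, hxu, ← map_pow] at h2
      have hA : ((a⁻¹ : Aˣ) : A) = x ^ k := IsLocalization.injective L hM h2
      rcases k with _ | k
      · rfl
      · exact absurd (hA ▸ (a⁻¹).isUnit : IsUnit (x ^ (k + 1)))
          (fun h => hx.not_unit ((isUnit_pow_iff k.succ_ne_zero).1 h))
  have h' : Units.map (algebraMap A L).toMonoidHom (a ^ n) = xu ^ (m - j * n) := by
    rw [mul_pow, ← zpow_natCast (xu ^ j) n, ← zpow_mul] at h
    rw [map_pow, zpow_sub, ← h, mul_inv_cancel_right]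
  exact ⟨j, by linarith [key _ _ h']⟩

end Groth.Agent.H05EGA4.EtH90
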