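import Groth.Agent.H18Et.Subterminal
import Groth.Agent.H18Et.MuConst
import Groth.Agent.H18Et.FreeSheaf
import Groth.Agent.H12Pic.InvDesc.Coboundary
import Groth.Prelude.Def_EtGm
import Mathlib.CategoryTheory.Sites.EpiMono

/-!
# Hilbert's theorem 90 for the étale site: étale cocycles of units are Zariski locally trivial

For a short exact sequence `0 → G_m → I → Q → 0` of abelian étale sheaves, every global section of
`Q` lifts to `I` Zariski locally.
-/

set_option autoImplicit false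
set_option linter.style.haveILetI false
set_option backward.isDefEq.respectTransparency false
set_option backward.isDefEq.respectTransparency.types false

universe u

open CategoryTheory CategoryTheory.Limits AlgebraicGeometry Opposite

namespace Groth.Agent.H05EGA4.EtH90

open Groth.Agent.H12Pic.InvDesc
open Groth.Agent.H18Et (mem_topology_of_forall_point)
open Groth.Agent.H18Et.Subterminal (ofOpen exists_mem_of_cover)
open Groth.Agent.H18Et.MuConst (sec sec_surjective sec_injective map_sec)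
open scoped Groth.Agent.H18Et

variable {X : Scheme.{u}}

/-- Restriction along a morphism of the site. -/
noncomputable abbrev res (F : EtCoh.Ab X) {U V : X.Etale} (g : V ⟶ U) :
    EtCoh.sect F U →+ EtCoh.sect F V := (F.obj.map g.op).hom

theorem res_res (F : EtCoh.Ab X) {U V W : X.Etale} (g : V ⟶ U) (h : W ⟶ V) (s : EtCoh.sect F U) :
    res F h (res F g s) = res F (h ≫ g) s := by
  rw [res, res, res, ← ConcreteCategory.comp_apply, ← F.obj.map_comp, ← op_comp]

theorem res_congr (F : EtCoh.Ab X) {U V : X.Etale} {g g' : V ⟶ U} (h : g = g') (s : EtCoh.sect F U) :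
    res F g s = res F g' s := by subst h; rfl

theorem res_app {F G : EtCoh.Ab X} (φ : F ⟶ G) {U V : X.Etale} (g : V ⟶ U) (s : EtCoh.sect F U) :
    φ.hom.app (op V) (res F g s) = res G g (φ.hom.app (op U) s) :=
  NatTrans.naturality_apply φ.hom g.op s

theorem sec_mul {U : X.Etale} (v w : Γ(U.left, ⊤)ˣ) : sec (v * w) = sec v + sec w := rfl

theorem isSheafFor_single (F : EtCoh.Ab X) {W T : X.Etale} (m : W ⟶ T)
    (hsurj : Function.Surjective m.left.base) :
    Presieve.IsSheafFor (F.obj ⋙ CategoryTheory.forget AddCommGrpCat.{u + 1})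
      (Presieve.ofArrows (fun _ : PUnit.{u + 1} => W) fun _ => m) := by
  rw [Presieve.isSheafFor_iff_generate]
  refine ((isSheaf_iff_isSheaf_of_type _ _).1
    ((sheafCompose _ (CategoryTheory.forget AddCommGrpCat.{u + 1})).obj F).property) _ ?_
  refine mem_topology_of_forall_point _ fun x => ?_
  obtain ⟨p, hp⟩ := hsurj x
  exact ⟨W, m, p, ⟨W, 𝟙 _, m, Presieve.ofArrows.mk PUnit.unit, Category.id_comp _⟩, hp⟩

/-- A section over an object covering `T` with equal restrictions on all pairs descends to `T`. -/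
theorem exists_descend (F : EtCoh.Ab X) {W T : X.Etale} (m : W ⟶ T)
    (hsurj : Function.Surjective m.left.base) (t : EtCoh.sect F W)
    (h : ∀ (Z : X.Etale) (a b : Z ⟶ W), a ≫ m = b ≫ m → res F a t = res F b t) :
    ∃ t₀ : EtCoh.sect F T, res F m t₀ = t := by
  obtain ⟨t₀, ht₀, -⟩ := (Presieve.isSheafFor_arrows_iff _ _).1 (isSheafFor_single F m hsurj) (fun _ => t)
    fun _ _ Z a b hab => h Z a b hab
  exact ⟨t₀, ht₀ PUnit.unit⟩

theorem eq_of_res_eq (F : EtCoh.Ab X) {W T : X.Etale} (m : W ⟶ T)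
    (hsurj : Function.Surjective m.left.base) (a b : EtCoh.sect F T) (h : res F m a = res F m b) : a = b :=
  (isSheafFor_single F m hsurj).isSeparatedFor.ext fun _ f hf => by
    obtain ⟨⟩ := hf
    exact h

/-- An affine étale neighbourhood of a point mapping onto an affine open neighbourhood. -/
theorem exists_affine_nbhd (Y : X.Etale) (y : Y.left) :
    ∃ (V : X.Opens) (O : Y.left.Opens) (g : O.toScheme ⟶ V.toScheme), IsAffineOpen V ∧ IsAffineOpen O ∧
      Y.hom y ∈ V ∧ Surjective g ∧ g ≫ V.ι = O.ι ≫ Y.hom := by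
  haveI : Etale Y.hom := Y.prop
  obtain ⟨V₀, hV₀, hxV₀, -⟩ := exists_isAffineOpen_mem_and_subset (U := (⊤ : X.Opens)) (x := Y.hom y) trivial
  obtain ⟨O₀, hO₀, hyO₀, hle⟩ := exists_isAffineOpen_mem_and_subset (U := Y.hom ⁻¹ᵁ V₀) (x := y) hxV₀
  let M : X.Opens := ⟨Y.hom '' (O₀ : Set Y.left), Y.hom.isOpenMap _ O₀.2⟩
  obtain ⟨f, hfM, hxf⟩ := hV₀.exists_basicOpen_le (V := M) ⟨Y.hom y, ⟨y, hyO₀, rfl⟩⟩ hxV₀
  let a := Y.hom.appLE V₀ O₀ hle f
  let O := Y.left.basicOpen a
  have hO : O = O₀ ⊓ Y.hom ⁻¹ᵁ X.basicOpen f := Scheme.basicOpen_appLE _ _ _ _ _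
  have hr : Set.range (O.ι ≫ Y.hom).base ⊆ Set.range (X.basicOpen f).ι.base := by
    rintro _ ⟨z, rfl⟩
    rw [Scheme.Opens.range_ι, Scheme.Hom.comp_apply]
    exact (hO ▸ z.2 : z.1 ∈ O₀ ⊓ Y.hom ⁻¹ᵁ X.basicOpen f).2
  refine ⟨X.basicOpen f, O, IsOpenImmersion.lift (X.basicOpen f).ι (O.ι ≫ Y.hom) hr,
    hV₀.basicOpen f, hO₀.basicOpen a, hxf, ⟨fun v => ?_⟩, IsOpenImmersion.lift_fac _ _ _⟩
  obtain ⟨z, hz, hzv⟩ := hfM v.2
  have hzO : z ∈ O := by
    rw [hO]
    exact ⟨hz, show Y.hom z ∈ X.basicOpen f from hzv ▸ v.2⟩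
  refine ⟨⟨z, hzO⟩, (X.basicOpen f).ι.isOpenEmbedding.injective ?_⟩
  rw [← Scheme.Hom.comp_apply, IsOpenImmersion.lift_fac, Scheme.Hom.comp_apply]
  exact hzv

variable {I Q : EtCoh.Ab X} (i : EtCoh.Gm X ⟶ I) (q : I ⟶ Q)

/-- Sections killed by `q` come from `G_m`, and `i` is injective on sections. -/
theorem sections_exact (w : i ≫ q = 0) (hS : (ShortComplex.mk i q w).ShortExact) (U : X.Etale) :
    Function.Injective (i.hom.app (op U)) ∧
      ∀ r : EtCoh.sect I U, q.hom.app (op U) r = 0 → ∃ v : Γ(U.left, ⊤)ˣ, i.hom.app (op U) (sec v) = r := by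
  let ev : EtCoh.Ab X ⥤ AddCommGrpCat.{u + 1} :=
    (sheafSections X.smallEtaleTopology AddCommGrpCat.{u + 1}).obj (op U)
  haveI : PreservesFiniteLimits ev := inferInstanceAs
    (PreservesFiniteLimits (sheafToPresheaf _ _ ⋙ (evaluation _ _).obj (op U)))
  haveI : Mono i := hS.mono_f
  refine ⟨(AddCommGrpCat.mono_iff_injective (ev.map i)).1 inferInstance, fun r hr => ?_⟩
  obtain ⟨a, ha⟩ := (ShortComplex.ab_exact_iff _).1
    (hS.exact.map_of_mono_of_preservesKernel ev hS.mono_f inferInstance) r hr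
  obtain ⟨v, rfl⟩ := sec_surjective a
  exact ⟨v, ha⟩

/-- Étale locally liftable sections lift Zariski locally. -/
theorem exists_lift (w : i ≫ q = 0) (hS : (ShortComplex.mk i q w).ShortExact)
    (s : EtCoh.sect Q (EtCoh.top X)) (x : X) :
    ∃ D : X.Opens, x ∈ D ∧ ∃ r : EtCoh.sect I (ofOpen D),
      q.hom.app (op (ofOpen D)) r = res Q ((EtCore.topIsTerminal X).from _) s := by
  classical
  have hterm := EtCore.topIsTerminal X
  haveI : Sheaf.IsLocallySurjective q := (Sheaf.isLocallySurjective_iff_epi' _ q).2 hS.epi_g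
  obtain ⟨Y, ρ, y, ⟨t₀, ht₀⟩, hρ⟩ :=
    exists_mem_of_cover (Presheaf.imageSieve_mem X.smallEtaleTopology q.hom s) x
  have hy : Y.hom y = x := by
    have e : ρ.left ≫ (EtCoh.top X).hom = Y.hom := Over.w ρ.hom
    rw [← hρ, ← e, Scheme.Hom.comp_apply]
    rfl
  obtain ⟨V, O, g, hV, hO, hxV, hg, hgO⟩ := exists_affine_nbhd Y y
  haveI : IsAffine V.toScheme := hV
  haveI : IsAffine O.toScheme := hO
  haveI : Etale Y.hom := Y.prop
  haveI hgι : Etale (g ≫ V.ι) := by rw [hgO]; infer_instance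
  haveI : Etale g := Etale.of_comp g V.ι
  let W : X.Etale := Scheme.Etale.mk (g ≫ V.ι)
  let a₀ : W ⟶ Y := MorphismProperty.Over.homMk O.ι hgO.symm trivial
  obtain ⟨t, ht⟩ : ∃ t : EtCoh.sect I W, q.hom.app (op W) t = res Q (hterm.from W) s := by
    refine ⟨res I a₀ t₀, ?_⟩
    rw [res_app, show q.hom.app (op Y) t₀ = res Q ρ s from ht₀, res_res]
    exact res_congr Q (hterm.hom_ext _ _) s
  -- pairs of points of the covering
  haveI : Etale (pullback.fst g g) := MorphismProperty.pullback_fst _ _ inferInstance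
  let P : X.Etale := Scheme.Etale.mk (pullback.fst g g ≫ g ≫ V.ι)
  let p₁ : P ⟶ W := MorphismProperty.Over.homMk (pullback.fst g g) rfl trivial
  let p₂ : P ⟶ W := MorphismProperty.Over.homMk (pullback.snd g g)
    (show pullback.snd g g ≫ g ≫ V.ι = pullback.fst g g ≫ g ≫ V.ι by rw [← pullback.condition_assoc]) trivial
  obtain ⟨v, hv⟩ : ∃ v : Γ(pullback g g, ⊤)ˣ, i.hom.app (op P) (sec (U := P) v) = res I p₁ t - res I p₂ t :=
    (sections_exact i q w hS P).2 (res I p₁ t - res I p₂ t) (by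
    rw [map_sub, res_app, res_app, ht, res_res, res_res, sub_eq_zero]
    exact res_congr Q (hterm.hom_ext _ _) s)
  -- the difference at any pair of points in the site
  have key : ∀ (Z : X.Etale) (α β : Z ⟶ W) (h : α.left ≫ g = β.left ≫ g),
      i.hom.app (op Z) (sec (Units.map ((pullback.lift α.left β.left h).appTop).hom.toMonoidHom v)) =
        res I α t - res I β t := by
    intro Z α β h
    let ℓ : Z ⟶ P := MorphismProperty.Over.homMk (pullback.lift α.left β.left h)
      (show pullback.lift α.left β.left h ≫ pullback.fst g g ≫ g ≫ V.ι = Z.hom by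
        rw [pullback.lift_fst_assoc]; exact Over.w α.hom) trivial
    have e₁ : ℓ ≫ p₁ = α := MorphismProperty.Over.Hom.ext (pullback.lift_fst _ _ _)
    have e₂ : ℓ ≫ p₂ = β := MorphismProperty.Over.Hom.ext (pullback.lift_snd _ _ _)
    show i.hom.app (op Z) ((EtCoh.Gm X).obj.map ℓ.op (sec v)) = _
    refine (res_app i ℓ (sec v)).trans ?_
    rw [hv, map_sub, res_res, res_res, res_congr I e₁, res_congr I e₂]
  -- the cocycle identity
  have hcoc : IsCocycle g (v : Γ(pullback g g, ⊤)) := by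
    let T₃ := pullback (pullback.snd g g) (pullback.fst g g)
    let π₁ : T₃ ⟶ O.toScheme := pullback.fst _ _ ≫ pullback.fst g g
    let π₂ : T₃ ⟶ O.toScheme := pullback.fst _ _ ≫ pullback.snd g g
    let π₃ : T₃ ⟶ O.toScheme := pullback.snd _ _ ≫ pullback.snd g g
    have hgg : pullback.fst g g ≫ g = pullback.snd g g ≫ g := pullback.condition
    have h₁₂ : π₁ ≫ g = π₂ ≫ g := by simp only [π₁, π₂, Category.assoc, hgg]
    have h₂₃ : π₂ ≫ g = π₃ ≫ g := by
      have hc : pullback.fst (pullback.snd g g) (pullback.fst g g) ≫ pullback.snd g g =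
          pullback.snd (pullback.snd g g) (pullback.fst g g) ≫ pullback.fst g g := pullback.condition
      show (pullback.fst _ _ ≫ pullback.snd g g) ≫ g = (pullback.snd _ _ ≫ pullback.snd g g) ≫ g
      rw [hc, Category.assoc, Category.assoc,
        show pullback.fst g g ≫ g = pullback.snd g g ≫ g from pullback.condition]
    haveI : Etale π₁ := by
      haveI : Etale (pullback.fst (pullback.snd g g) (pullback.fst g g)) :=
        MorphismProperty.pullback_fst _ _ inferInstance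
      infer_instance
    haveI : Etale (π₁ ≫ g ≫ V.ι) := inferInstance
    let Z : X.Etale := Scheme.Etale.mk (π₁ ≫ g ≫ V.ι)
    let b₁ : Z ⟶ W := MorphismProperty.Over.homMk π₁ rfl trivial
    let b₂ : Z ⟶ W := MorphismProperty.Over.homMk π₂
      (show π₂ ≫ g ≫ V.ι = π₁ ≫ g ≫ V.ι by rw [← Category.assoc, ← h₁₂, Category.assoc]) trivial
    let b₃ : Z ⟶ W := MorphismProperty.Over.homMk π₃
      (show π₃ ≫ g ≫ V.ι = π₁ ≫ g ≫ V.ι by rw [← Category.assoc, ← h₂₃, ← h₁₂, Category.assoc]) trivial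
    have huniv : evP g v π₁ π₂ h₁₂ * evP g v π₂ π₃ h₂₃ = evP g v π₁ π₃ (h₁₂.trans h₂₃) := by
      refine congrArg Units.val (sec_injective (U := Z) ((sections_exact i q w hS Z).1 ?_) :
        Units.map ((pullback.lift π₁ π₂ h₁₂).appTop).hom.toMonoidHom v *
          Units.map ((pullback.lift π₂ π₃ h₂₃).appTop).hom.toMonoidHom v =
        Units.map ((pullback.lift π₁ π₃ (h₁₂.trans h₂₃)).appTop).hom.toMonoidHom v)
      rw [sec_mul, map_add]
      erw [key Z b₁ b₂ h₁₂, key Z b₂ b₃ h₂₃, key Z b₁ b₃ (h₁₂.trans h₂₃)]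
      abel
    intro T t₁ t₂ t₃ k₁₂ k₂₃
    let ℓ : T ⟶ T₃ := pullback.lift (pullback.lift t₁ t₂ k₁₂) (pullback.lift t₂ t₃ k₂₃)
      ((pullback.lift_snd _ _ _).trans (pullback.lift_fst _ _ _).symm)
    have l₁ : ℓ ≫ π₁ = t₁ := (pullback.lift_fst_assoc _ _ _ _).trans (pullback.lift_fst _ _ _)
    have l₂ : ℓ ≫ π₂ = t₂ := (pullback.lift_fst_assoc _ _ _ _).trans (pullback.lift_snd _ _ _)
    have l₃ : ℓ ≫ π₃ = t₃ := (pullback.lift_snd_assoc _ _ _ _).trans (pullback.lift_snd _ _ _)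
    rw [evP_comp g v ℓ π₁ π₂ h₁₂ l₁ l₂, evP_comp g v ℓ π₂ π₃ h₂₃ l₂ l₃,
      evP_comp g v ℓ π₁ π₃ (h₁₂.trans h₂₃) l₁ l₃, ← map_mul, huniv]
  obtain ⟨D, hxD, b, hDb, hb⟩ := exists_coboundary_scheme g (v : Γ(pullback g g, ⊤)) v.isUnit hcoc
    (⟨x, hy ▸ hxV⟩ : V.toScheme)
  -- the corrected lift over the smaller open
  let D' : X.Opens := V.ι ''ᵁ D
  let O' : O.toScheme.Opens := g ⁻¹ᵁ D
  have hub : IsUnit (O'.ι.appTop b) := by
    refine O'.toScheme.toRingedSpace.isUnit_of_isUnit_germ ⊤ _ fun z hz => ?_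
    refine (O'.toScheme.mem_basicOpen _ z hz).1 ?_
    rw [← Scheme.preimage_basicOpen_top]
    exact hDb z.2
  let W' : X.Etale := Scheme.Etale.mk (O'.ι ≫ g ≫ V.ι)
  let m : W' ⟶ W := MorphismProperty.Over.homMk O'.ι rfl trivial
  have hr : Set.range (O'.ι ≫ g ≫ V.ι).base ⊆ Set.range D'.ι.base := by
    rintro _ ⟨z, rfl⟩
    rw [Scheme.Opens.range_ι, Scheme.Hom.comp_apply, Scheme.Hom.comp_apply]
    exact ⟨_, z.2, rfl⟩
  let π : W' ⟶ ofOpen D' :=
    MorphismProperty.Over.homMk (IsOpenImmersion.lift D'.ι _ hr) (IsOpenImmersion.lift_fac _ _ _) trivial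
  have hπ : Function.Surjective π.left.base := by
    rintro ⟨_, d, hd, rfl⟩
    obtain ⟨z, rfl⟩ := g.surjective d
    refine ⟨⟨z, hd⟩, D'.ι.isOpenEmbedding.injective ?_⟩
    show D'.ι.base ((IsOpenImmersion.lift D'.ι _ hr).base _) = _
    rw [← Scheme.Hom.comp_apply, IsOpenImmersion.lift_fac]
    rfl
  let t' : EtCoh.sect I W' := res I m t - i.hom.app (op W') (sec hub.unit)
  have hq' : q.hom.app (op W') t' = res Q (hterm.from W') s := by
    have h0 : q.hom.app (op W') (i.hom.app (op W') (sec hub.unit)) = 0 :=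
      ConcreteCategory.congr_hom (congrArg (fun k => k.hom.app (op W')) w) _
    rw [map_sub, h0, sub_zero, res_app, ht, res_res]
    exact res_congr Q (hterm.hom_ext _ _) s
  obtain ⟨r, hr₀⟩ := exists_descend I π hπ t' fun Z α β hαβ => by
    have hk : (α ≫ m).left ≫ g = (β ≫ m).left ≫ g := by
      rw [← cancel_mono V.ι, Category.assoc, Category.assoc]
      exact (Over.w (α ≫ m).hom).trans (Over.w (β ≫ m).hom).symm
    have hb' := hb Z.left (α ≫ m).left (β ≫ m).left hk
    rw [map_sub, map_sub, res_res, res_res, ← res_app, ← res_app, sub_eq_sub_iff_sub_eq_sub,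
      ← key Z (α ≫ m) (β ≫ m) hk, ← map_sub]
    refine congrArg (i.hom.app (op Z)) ?_
    rw [eq_sub_iff_add_eq]
    show sec _ + sec (Units.map (β.left.appTop).hom.toMonoidHom hub.unit) =
      sec (Units.map (α.left.appTop).hom.toMonoidHom hub.unit)
    rw [← sec_mul]
    refine congrArg sec (Units.ext ?_)
    show (pullback.lift (α ≫ m).left (β ≫ m).left hk).appTop v.1 * β.left.appTop hub.unit.1 =
      α.left.appTop hub.unit.1
    rw [IsUnit.unit_spec]
    exact hb'.symm
  refine ⟨D', ⟨⟨x, hy ▸ hxV⟩, hxD, rfl⟩, r, ?_⟩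
  refine eq_of_res_eq Q π hπ _ _ ?_
  rw [← res_app, hr₀, hq', res_res]
  exact res_congr Q (hterm.hom_ext _ _) s

end Groth.Agent.H05EGA4.EtH90
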